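import Mathlib
import Cfsg.Agent.Lib.Helper36.Stu.Defs

/-!
# Project STU (S2318), package MULT1 (Gelfand–Graev multiplicity one), operator proof

`e_lam := |U|⁻¹ ∑_{u ∈ U} lam(u⁻¹) ρ(u)` is an idempotent of trace `χ(1)/|U|`; a common eigenvector
`w` of `ρ(B)` in the `U`-fixed space makes `e_lam ρ(g) w` a multiple of `e_lam ρ(g₀) w` for every
`g`, so by irreducibility the range of `e_lam` is at most a line.
-/

set_option autoImplicit false

namespace Cfsg.Agent.Lib.Helper56.Stu

open Cfsg.Agent.Lib.Helper36.Stu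

universe u

section ce

variable {V : Type*} [AddCommGroup V] [Module ℂ V] [FiniteDimensional ℂ V]

/-- a common eigenvector of a family of endomorphisms which commute on an invariant subspace -/
theorem exists_common_eigenvector {ι : Type*} (f : ι → Module.End ℂ V) (W : Submodule ℂ V)
    (hW : W ≠ ⊥) (hinv : ∀ i, ∀ w ∈ W, f i w ∈ W)
    (hcomm : ∀ i j, ∀ w ∈ W, f i (f j w) = f j (f i w)) :
    ∃ w ∈ W, w ≠ 0 ∧ ∀ i, ∃ μ : ℂ, f i w = μ • w := by
  classical
  have hex : ∃ k : ℕ, ∃ W' : Submodule ℂ V, W' ≠ ⊥ ∧ W' ≤ W ∧ (∀ i, ∀ w ∈ W', f i w ∈ W') ∧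
      Module.finrank ℂ W' = k := ⟨_, W, hW, le_rfl, hinv, rfl⟩
  obtain ⟨W', hW'0, hW'W, hW'inv, hk⟩ := Nat.find_spec hex
  have hmin : ∀ E : Submodule ℂ V, E ≠ ⊥ → E ≤ W → (∀ i, ∀ w ∈ E, f i w ∈ E) →
      Module.finrank ℂ W' ≤ Module.finrank ℂ E := by
    intro E hE0 hEW hEinv
    rw [hk]
    exact Nat.find_min' hex ⟨E, hE0, hEW, hEinv, rfl⟩
  have hscal : ∀ i, ∃ μ : ℂ, ∀ w ∈ W', f i w = μ • w := by
    intro i
    have : Nontrivial W' := Submodule.nontrivial_iff_ne_bot.mpr hW'0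
    obtain ⟨μ, hμ⟩ := Module.End.exists_eigenvalue ((f i).restrict (hW'inv i))
    obtain ⟨v, hv⟩ := hμ.exists_hasEigenvector
    refine ⟨μ, ?_⟩
    have hker : ∀ x : V, x ∈ LinearMap.ker (f i - μ • LinearMap.id) ↔ f i x = μ • x := by
      intro x
      rw [LinearMap.mem_ker, LinearMap.sub_apply, LinearMap.smul_apply, LinearMap.id_apply,
        sub_eq_zero]
    have hEle : W' ⊓ LinearMap.ker (f i - μ • LinearMap.id) ≤ W' := inf_le_left
    have hvE : (v : V) ∈ W' ⊓ LinearMap.ker (f i - μ • LinearMap.id) := by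
      refine ⟨v.2, ?_⟩
      rw [SetLike.mem_coe, hker]
      have h2 := congrArg Subtype.val hv.apply_eq_smul
      simpa using h2
    have hE0 : W' ⊓ LinearMap.ker (f i - μ • LinearMap.id) ≠ ⊥ := by
      intro h
      have h3 : (v : V) ∈ (⊥ : Submodule ℂ V) := h ▸ hvE
      rw [Submodule.mem_bot] at h3
      exact hv.2 (Subtype.ext h3)
    have hEinv : ∀ j, ∀ w ∈ W' ⊓ LinearMap.ker (f i - μ • LinearMap.id),
        f j w ∈ W' ⊓ LinearMap.ker (f i - μ • LinearMap.id) := by
      intro j w hw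
      refine ⟨hW'inv j w hw.1, ?_⟩
      have hw2 := hw.2
      rw [SetLike.mem_coe, hker] at hw2 ⊢
      rw [hcomm i j w (hW'W hw.1), hw2, map_smul]
    have hfin := hmin _ hE0 (hEle.trans hW'W) hEinv
    have hEq : W' ⊓ LinearMap.ker (f i - μ • LinearMap.id) = W' :=
      Submodule.eq_of_le_of_finrank_le hEle hfin
    intro w hw
    have hw' : w ∈ W' ⊓ LinearMap.ker (f i - μ • LinearMap.id) := by
      rw [hEq]; exact hw
    exact (hker w).mp hw'.2
  obtain ⟨w, hwW', hw0⟩ := (Submodule.ne_bot_iff W').mp hW'0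
  exact ⟨w, hW'W hwW', hw0, fun i => (hscal i).imp fun μ h => h w hwW'⟩

end ce

section avg

variable {G : Type u} [Group G] {n : ℕ} (ρ : Representation ℂ G (Fin n → ℂ))
  (U : Subgroup G) [Fintype U] (lam : G → ℂ)

/-- the twisted averaging operator `|U|⁻¹ ∑_{u ∈ U} lam(u⁻¹) ρ(u)` -/
noncomputable def avg : Module.End ℂ (Fin n → ℂ) :=
  (Fintype.card U : ℂ)⁻¹ • ∑ u : U, lam ((u : G)⁻¹) • ρ (u : G)

variable (hmul : ∀ u ∈ U, ∀ u' ∈ U, lam (u * u') = lam u * lam u')

include hmul in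
theorem avg_mul_rho (v : U) : avg ρ U lam * ρ (v : G) = lam (v : G) • avg ρ U lam := by
  have hL : avg ρ U lam * ρ (v : G) =
      (Fintype.card U : ℂ)⁻¹ • ∑ u : U, lam ((u : G)⁻¹) • ρ ((u : G) * (v : G)) := by
    unfold avg
    rw [smul_mul_assoc, Finset.sum_mul]
    refine congrArg _ (Finset.sum_congr rfl fun u _ => ?_)
    rw [smul_mul_assoc, ← map_mul]
  have hR : lam (v : G) • avg ρ U lam =
      (Fintype.card U : ℂ)⁻¹ • ∑ u : U, (lam (v : G) * lam ((u : G)⁻¹)) • ρ (u : G) := by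
    unfold avg
    rw [smul_comm (lam (v : G)) ((Fintype.card U : ℂ)⁻¹), Finset.smul_sum]
    refine congrArg _ (Finset.sum_congr rfl fun u _ => ?_)
    rw [smul_smul]
  rw [hL, hR]
  refine congrArg _ (Fintype.sum_equiv (Equiv.mulRight v) _ _ ?_)
  intro u
  rw [Equiv.coe_mulRight, Subgroup.coe_mul]
  have h2 : lam (v : G) * lam (((u : G) * (v : G))⁻¹) = lam ((u : G)⁻¹) := by
    rw [← hmul _ v.2 _ (inv_mem (mul_mem u.2 v.2)), mul_inv_rev, ← mul_assoc, mul_inv_cancel,
      one_mul]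
  rw [h2]

include hmul in
theorem rho_mul_avg (v : U) : ρ (v : G) * avg ρ U lam = lam (v : G) • avg ρ U lam := by
  have hL : ρ (v : G) * avg ρ U lam =
      (Fintype.card U : ℂ)⁻¹ • ∑ u : U, lam ((u : G)⁻¹) • ρ ((v : G) * (u : G)) := by
    unfold avg
    rw [mul_smul_comm, Finset.mul_sum]
    refine congrArg _ (Finset.sum_congr rfl fun u _ => ?_)
    rw [mul_smul_comm, ← map_mul]
  have hR : lam (v : G) • avg ρ U lam =
      (Fintype.card U : ℂ)⁻¹ • ∑ u : U, (lam (v : G) * lam ((u : G)⁻¹)) • ρ (u : G) := by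
    unfold avg
    rw [smul_comm (lam (v : G)) ((Fintype.card U : ℂ)⁻¹), Finset.smul_sum]
    refine congrArg _ (Finset.sum_congr rfl fun u _ => ?_)
    rw [smul_smul]
  rw [hL, hR]
  refine congrArg _ (Fintype.sum_equiv (Equiv.mulLeft v) _ _ ?_)
  intro u
  rw [Equiv.coe_mulLeft, Subgroup.coe_mul]
  have h2 : lam (v : G) * lam (((v : G) * (u : G))⁻¹) = lam ((u : G)⁻¹) := by
    rw [mul_comm, ← hmul _ (inv_mem (mul_mem v.2 u.2)) _ v.2, mul_inv_rev, mul_assoc,
      inv_mul_cancel, mul_one]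
  rw [h2]

include hmul in
theorem avg_idem (h1 : lam 1 = 1) : IsIdempotentElem (avg ρ U lam) := by
  have hcard : (Fintype.card U : ℂ) ≠ 0 := Nat.cast_ne_zero.mpr Fintype.card_ne_zero
  unfold IsIdempotentElem
  have h2 : avg ρ U lam * avg ρ U lam =
      (Fintype.card U : ℂ)⁻¹ • ∑ u : U, lam ((u : G)⁻¹) • (ρ (u : G) * avg ρ U lam) := by
    have h0 : avg ρ U lam = (Fintype.card U : ℂ)⁻¹ • ∑ u : U, lam ((u : G)⁻¹) • ρ (u : G) := rfl
    nth_rewrite 1 [h0]
    rw [smul_mul_assoc, Finset.sum_mul]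
    refine congrArg _ (Finset.sum_congr rfl fun u _ => ?_)
    rw [smul_mul_assoc]
  rw [h2]
  have h3 : ∀ u : U, lam ((u : G)⁻¹) • (ρ (u : G) * avg ρ U lam) = avg ρ U lam := by
    intro u
    rw [rho_mul_avg ρ U lam hmul u, smul_smul, ← hmul _ (inv_mem u.2) _ u.2, inv_mul_cancel, h1,
      one_smul]
  rw [Finset.sum_congr rfl fun u _ => h3 u, Finset.sum_const, Finset.card_univ,
    ← Nat.cast_smul_eq_nsmul ℂ, smul_smul, inv_mul_cancel₀ hcard, one_smul]

theorem trace_avg (h1 : lam 1 = 1) (hvan : ∀ u ∈ U, u ≠ 1 → ρ.character u = 0) :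
    LinearMap.trace ℂ (Fin n → ℂ) (avg ρ U lam) = (Fintype.card U : ℂ)⁻¹ * ρ.character 1 := by
  classical
  unfold avg
  rw [map_smul, map_sum, smul_eq_mul]
  congr 1
  rw [Finset.sum_eq_single (1 : U)]
  · rw [map_smul, smul_eq_mul, Subgroup.coe_one, inv_one, h1, one_mul]
    rfl
  · intro u _ hu
    rw [map_smul, smul_eq_mul]
    have : ρ.character (u : G) = 0 := hvan _ u.2 (fun h => hu (Subtype.ext h))
    have h' : LinearMap.trace ℂ (Fin n → ℂ) (ρ (u : G)) = 0 := this
    rw [h', mul_zero]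
  · intro h
    exact absurd (Finset.mem_univ _) h

end avg

/-- Package MULT1 -/
theorem pkgMult1 : PkgMult1.{u} := by
  intro G _ _ U B lam g₀ χ hUB hBU hBB hmul h1 hg₀ hcov hirr hvan
  classical
  obtain ⟨n, ρ, hρ, rfl⟩ := hirr
  haveI : Fintype U := Fintype.ofFinite U
  have hcard : (Fintype.card U : ℂ) ≠ 0 := Nat.cast_ne_zero.mpr Fintype.card_ne_zero
  -- the degree is not zero
  have hn : ρ.character 1 ≠ 0 := by
    rw [Representation.char_one, Module.finrank_fin_fun]
    intro h0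
    have hn0 : n = 0 := by exact_mod_cast h0
    subst hn0
    have : Subsingleton (Submodule ℂ (Fin 0 → ℂ)) :=
      (Submodule.subsingleton_iff ℂ).mpr inferInstance
    have : (⊥ : Subrepresentation ρ) = ⊤ :=
      Subrepresentation.toSubmodule_injective (Subsingleton.elim _ _)
    exact bot_ne_top this
  -- the trivial-character projector and the fixed space
  have hmul1 : ∀ u ∈ U, ∀ u' ∈ U, (fun _ : G => (1 : ℂ)) (u * u') =
      (fun _ : G => (1 : ℂ)) u * (fun _ : G => (1 : ℂ)) u' := by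
    intro u _ u' _; simp
  have he1tr := trace_avg ρ U (fun _ => (1 : ℂ)) rfl hvan
  have he1ne : avg ρ U (fun _ => (1 : ℂ)) ≠ 0 := by
    intro h
    rw [h, map_zero] at he1tr
    exact (mul_ne_zero (inv_ne_zero hcard) hn) he1tr.symm
  obtain ⟨x, hx⟩ : ∃ x, avg ρ U (fun _ => (1 : ℂ)) x ≠ 0 := by
    by_contra hh
    push Not at hh
    exact he1ne (LinearMap.ext hh)
  let W : Submodule ℂ (Fin n → ℂ) :=
    { carrier := {w | ∀ u ∈ U, ρ u w = w}
      add_mem' := by
        intro a b ha hb u hu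
        rw [map_add, ha u hu, hb u hu]
      zero_mem' := by
        intro u _
        rw [map_zero]
      smul_mem' := by
        intro c w hw u hu
        rw [map_smul, hw u hu] }
  have hWmem : ∀ w, w ∈ W ↔ ∀ u ∈ U, ρ u w = w := fun w => Iff.rfl
  have hWne : W ≠ ⊥ := by
    intro h
    have h2 : avg ρ U (fun _ => (1 : ℂ)) x ∈ W := by
      rw [hWmem]
      intro u hu
      have h3 := congrArg (fun T : Module.End ℂ (Fin n → ℂ) => T x)
        (rho_mul_avg ρ U (fun _ => (1 : ℂ)) hmul1 ⟨u, hu⟩)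
      simpa using h3
    rw [h, Submodule.mem_bot] at h2
    exact hx h2
  have hWinv : ∀ b : B, ∀ w ∈ W, ρ (b : G) w ∈ W := by
    intro b w hw
    rw [hWmem] at hw ⊢
    intro u hu
    have h2 : (b : G)⁻¹ * u * (b : G) ∈ U := by
      have := hBU _ (inv_mem b.2) u hu
      rwa [inv_inv] at this
    have h3 : u * (b : G) = (b : G) * ((b : G)⁻¹ * u * (b : G)) := by group
    rw [← Module.End.mul_apply, ← map_mul, h3, map_mul, Module.End.mul_apply, hw _ h2]
  have hmm : ∀ (a c : G) (y : Fin n → ℂ), ρ (a * c) y = ρ a (ρ c y) := by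
    intro a c y
    rw [map_mul, Module.End.mul_apply]
  have hWcomm : ∀ b b' : B, ∀ w ∈ W, ρ (b : G) (ρ (b' : G) w) = ρ (b' : G) (ρ (b : G) w) := by
    intro b b' w hw
    have h2 : (b : G) * b' * (b : G)⁻¹ * (b' : G)⁻¹ ∈ U := hBB _ b.2 _ b'.2
    have h3 : (b : G) * b' = ((b : G) * b' * (b : G)⁻¹ * (b' : G)⁻¹) * ((b' : G) * b) := by group
    have h4 : ρ (b' : G) (ρ (b : G) w) ∈ W := hWinv b' _ (hWinv b w hw)
    rw [← hmm (b : G) (b' : G) w, h3, hmm _ ((b' : G) * b) w, hmm (b' : G) (b : G) w]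
    exact (hWmem _).mp h4 _ h2
  obtain ⟨w, hwW, hw0, hθ⟩ :=
    exists_common_eigenvector (fun b : B => ρ (b : G)) W hWne hWinv hWcomm
  rw [hWmem] at hwW
  -- the key: `e (ρ g w)` is a multiple of `e (ρ g₀ w)`
  have key : ∀ g, avg ρ U lam (ρ g w) ∈ Submodule.span ℂ {avg ρ U lam (ρ g₀ w)} := by
    intro g
    rcases hcov g with ⟨u, hu, b, hb, rfl⟩ | ⟨u, hu, hu', hlam⟩
    · obtain ⟨μ, hμ⟩ := hθ ⟨b, hb⟩
      have hμ' : ρ b w = μ • w := hμ
      have h2 : avg ρ U lam (ρ u (ρ g₀ w)) = lam u • avg ρ U lam (ρ g₀ w) := by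
        have h3 := congrArg (fun T : Module.End ℂ (Fin n → ℂ) => T (ρ g₀ w))
          (avg_mul_rho ρ U lam hmul ⟨u, hu⟩)
        simpa using h3
      have h4 : avg ρ U lam (ρ (u * g₀ * b) w) = (μ * lam u) • avg ρ U lam (ρ g₀ w) := by
        rw [map_mul, map_mul, Module.End.mul_apply, Module.End.mul_apply, hμ', map_smul, map_smul,
          map_smul, h2, smul_smul]
      rw [h4]
      exact Submodule.smul_mem _ _ (Submodule.mem_span_singleton_self _)
    · have h3 : ρ u (ρ g w) = ρ g w := by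
        have h4 : u * g = g * (g⁻¹ * u * g) := by group
        rw [← Module.End.mul_apply, ← map_mul, h4, map_mul, Module.End.mul_apply, hwW _ hu']
      have h5 : avg ρ U lam (ρ g w) = lam u • avg ρ U lam (ρ g w) := by
        have h6 := congrArg (fun T : Module.End ℂ (Fin n → ℂ) => T (ρ g w))
          (avg_mul_rho ρ U lam hmul ⟨u, hu⟩)
        simp only [Module.End.mul_apply, LinearMap.smul_apply] at h6
        rw [h3] at h6
        exact h6
      have h7 : avg ρ U lam (ρ g w) = 0 := by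
        have h8 : (1 - lam u) • avg ρ U lam (ρ g w) = 0 := by
          rw [sub_smul, one_smul, ← h5, sub_self]
        rcases smul_eq_zero.mp h8 with h | h
        · exact absurd (sub_eq_zero.mp h).symm hlam
        · exact h
      rw [h7]
      exact Submodule.zero_mem _
  -- irreducibility
  have hspan : Submodule.span ℂ (Set.range fun g => ρ g w) = ⊤ := by
    have hinv : ∀ (g : G) ⦃v : Fin n → ℂ⦄, v ∈ Submodule.span ℂ (Set.range fun g => ρ g w) →
        ρ g v ∈ Submodule.span ℂ (Set.range fun g => ρ g w) := by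
      intro g v hv
      induction hv using Submodule.span_induction with
      | mem y hy =>
        obtain ⟨g', rfl⟩ := hy
        apply Submodule.subset_span
        exact ⟨g * g', by simp [map_mul]⟩
      | zero => rw [map_zero]; exact Submodule.zero_mem _
      | add a b _ _ ha hb => rw [map_add]; exact Submodule.add_mem _ ha hb
      | smul c a _ ha => rw [map_smul]; exact Submodule.smul_mem _ _ ha
    rcases eq_bot_or_eq_top
      (⟨Submodule.span ℂ (Set.range fun g => ρ g w), hinv⟩ : Subrepresentation ρ) with h | h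
    · exfalso
      have h2 := congrArg Subrepresentation.toSubmodule h
      have h3 : w ∈ Submodule.span ℂ (Set.range fun g => ρ g w) :=
        Submodule.subset_span ⟨1, by simp⟩
      have h4 : w ∈ (⊥ : Submodule ℂ (Fin n → ℂ)) := by
        have h5 : Submodule.span ℂ (Set.range fun g => ρ g w) = ⊥ := h2
        rw [← h5]; exact h3
      rw [Submodule.mem_bot] at h4
      exact hw0 h4
    · exact congrArg Subrepresentation.toSubmodule h
  have hrange : LinearMap.range (avg ρ U lam) ≤ Submodule.span ℂ {avg ρ U lam (ρ g₀ w)} := by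
    rintro _ ⟨y, rfl⟩
    have hy : y ∈ Submodule.span ℂ (Set.range fun g => ρ g w) := by rw [hspan]; trivial
    induction hy using Submodule.span_induction with
    | mem z hz =>
      obtain ⟨g, rfl⟩ := hz
      exact key g
    | zero => rw [map_zero]; exact Submodule.zero_mem _
    | add a b _ _ ha hb => rw [map_add]; exact Submodule.add_mem _ ha hb
    | smul c a _ ha => rw [map_smul]; exact Submodule.smul_mem _ _ ha
  -- trace = rank
  have hidem : IsIdempotentElem (avg ρ U lam) := avg_idem ρ U lam hmul h1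
  have hproj := LinearMap.IsIdempotentElem.isProj_range (avg ρ U lam) hidem
  have htr := hproj.trace
  have hfin : Module.finrank ℂ (LinearMap.range (avg ρ U lam)) ≤ 1 := by
    refine (Submodule.finrank_mono hrange).trans ?_
    by_cases hv : avg ρ U lam (ρ g₀ w) = 0
    · rw [hv, Submodule.span_zero_singleton, finrank_bot]
      exact Nat.zero_le 1
    · rw [finrank_span_singleton hv]
  have htr2 := trace_avg ρ U lam h1 hvan
  have hkey : (Module.finrank ℂ (LinearMap.range (avg ρ U lam)) : ℂ) =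
      (Fintype.card U : ℂ)⁻¹ * ρ.character 1 := by rw [← htr, htr2]
  rcases Nat.le_one_iff_eq_zero_or_eq_one.mp hfin with h0 | h1'
  · rw [h0, Nat.cast_zero] at hkey
    exact absurd hkey.symm (mul_ne_zero (inv_ne_zero hcard) hn)
  · rw [h1', Nat.cast_one] at hkey
    rw [Nat.card_eq_fintype_card]
    have := hkey.symm
    rw [inv_mul_eq_iff_eq_mul₀ hcard, mul_one] at this
    exact this

end Cfsg.Agent.Lib.Helper56.Stu
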